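import Mathlib.RingTheory.Spectrum.Prime.ConstructibleSet
import Mathlib.RingTheory.Spectrum.Prime.Jacobson
import Groth.Agent.GenFree.Image

/-!
# Images of constructible sets under ring maps of finite type
-/

set_option autoImplicit false

universe u

open PrimeSpectrum Topology

namespace Groth.Agent.CAlgJac

/-- a constructible set is a finite union of images of ring maps of finite type -/
theorem exists_finiteType_cover {A : Type u} [CommRing A] {E : Set (PrimeSpectrum A)} (hE : IsConstructible E) :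
    ∃ (n : Type u) (_ : Finite n) (T : n → Type u) (_ : ∀ i, CommRing (T i)) (ψ : ∀ i, A →+* T i),
      (∀ i, (ψ i).FiniteType) ∧ E = ⋃ i, Set.range (comap (ψ i)) := by
  obtain ⟨s, rfl⟩ := exists_constructibleSetData_iff.mpr hE
  refine ⟨(s : Set (BasicConstructibleSetData A)), inferInstance,
    fun C => Localization.Away (Ideal.Quotient.mk (Ideal.span (Set.range C.1.g)) C.1.f), inferInstance,
    fun C => (algebraMap (A ⧸ Ideal.span (Set.range C.1.g))
      (Localization.Away (Ideal.Quotient.mk (Ideal.span (Set.range C.1.g)) C.1.f))).comp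
      (Ideal.Quotient.mk (Ideal.span (Set.range C.1.g))), fun C => ?_, ?_⟩
  · exact RingHom.FiniteType.comp
      (RingHom.finiteType_algebraMap.2
        (@Algebra.FiniteType.of_finitePresentation _ _ _ _ _ (IsLocalization.Away.finitePresentation
          (Ideal.Quotient.mk (Ideal.span (Set.range C.1.g)) C.1.f))))
      (RingHom.FiniteType.of_surjective _ Ideal.Quotient.mk_surjective)
  rw [ConstructibleSetData.toSet]
  simp_rw [← Finset.mem_coe, Set.biUnion_eq_iUnion]
  refine Set.iUnion_congr fun C => ?_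
  let f := Ideal.Quotient.mk (Ideal.span (Set.range C.1.g)) C.1.f
  symm
  trans comap (Ideal.Quotient.mk (Ideal.span (Set.range C.1.g))) ''
    (Set.range (comap (algebraMap _ (Localization.Away f))))
  · rw [← Set.range_comp]; rfl
  · rw [localization_away_comap_range _ f, ← comap_basicOpen, TopologicalSpace.Opens.coe_comap,
      ContinuousMap.coe_mk, Set.image_preimage_eq_inter_range,
      range_comap_of_surjective _ _ Ideal.Quotient.mk_surjective, BasicConstructibleSetData.toSet,
      Set.sdiff_eq_compl_inter, basicOpen_eq_zeroLocus_compl, Ideal.mk_ker, zeroLocus_span]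

/-- around each of its points the image contains an open piece of the closure of that point -/
theorem exists_open_inter_closure {A B : Type u} [CommRing A] [CommRing B] (φ : A →+* B) (hφ : φ.FiniteType)
    {E : Set (PrimeSpectrum B)} (hE : IsConstructible E) {ξ : PrimeSpectrum A} (hξ : ξ ∈ comap φ '' E) :
    ∃ U : Set (PrimeSpectrum A), IsOpen U ∧ ξ ∈ U ∧ U ∩ closure {ξ} ⊆ comap φ '' E := by
  obtain ⟨n, _, T, _, ψ, hψ, rfl⟩ := exists_finiteType_cover hE
  obtain ⟨y, hy, rfl⟩ := hξ
  obtain ⟨i, q, rfl⟩ := Set.mem_iUnion.1 hy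
  let χ : A →+* T i := (ψ i).comp φ
  let p : Ideal A := (comap φ (comap (ψ i) q)).asIdeal
  let χ' : A ⧸ p →+* T i ⧸ p.map χ := Ideal.quotientMap _ χ Ideal.le_comap_map
  have hχ : χ'.FiniteType := by
    refine RingHom.FiniteType.of_comp_finiteType (f := Ideal.Quotient.mk p) ?_
    rw [Ideal.quotientMap_comp_mk]
    exact (RingHom.FiniteType.of_surjective _ Ideal.Quotient.mk_surjective).comp ((hψ i).comp hφ)
  have hJq : p.map χ ≤ q.asIdeal := Ideal.map_le_iff_le_comap.2 le_rfl
  obtain ⟨q', hq'⟩ : q ∈ Set.range (comap (Ideal.Quotient.mk (p.map χ))) := by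
    rw [range_comap_of_surjective _ _ Ideal.Quotient.mk_surjective, Ideal.mk_ker]
    exact hJq
  have hbot : (comap χ' q').asIdeal = ⊥ := by
    refine eq_bot_iff.2 fun x hx => ?_
    obtain ⟨x, rfl⟩ := Ideal.Quotient.mk_surjective x
    refine Ideal.mem_bot.2 (Ideal.Quotient.eq_zero_iff_mem.2 ?_)
    show χ x ∈ q.asIdeal
    rw [← hq']
    exact hx
  obtain ⟨a, ha, hsub⟩ := GenFree.exists_basicOpen_subset_range_comap χ' hχ q' fun P => by
    rw [hbot]; exact bot_le
  obtain ⟨a, rfl⟩ := Ideal.Quotient.mk_surjective a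
  refine ⟨basicOpen a, (basicOpen a).isOpen, fun h => ha ?_, fun x hx => ?_⟩
  · show χ' (Ideal.Quotient.mk p a) ∈ q'.asIdeal
    rw [← hq'] at h
    exact h
  obtain ⟨hxa, hxc⟩ := hx
  rw [← zeroLocus_vanishingIdeal_eq_closure, vanishingIdeal_singleton] at hxc
  obtain ⟨x', rfl⟩ : x ∈ Set.range (comap (Ideal.Quotient.mk p)) := by
    rw [range_comap_of_surjective _ _ Ideal.Quotient.mk_surjective, Ideal.mk_ker]
    exact hxc
  obtain ⟨z, hz⟩ := hsub (a := x') hxa
  exact ⟨comap (ψ i) (comap (Ideal.Quotient.mk (p.map χ)) z), Set.mem_iUnion.2 ⟨i, _, rfl⟩, by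
    rw [← hz, ← comap_comp_apply, ← comap_comp_apply, ← comap_comp_apply]; rfl⟩

/-- a point of the base in the closure of the part of the image over its own closure is in the image -/
theorem mem_image_of_closure {A B : Type u} [CommRing A] [CommRing B] (φ : A →+* B)
    {E : Set (PrimeSpectrum B)} (hE : IsConstructible E) {ξ : PrimeSpectrum A}
    (hξ : ξ ∈ closure (closure {ξ} ∩ comap φ '' E)) : ξ ∈ comap φ '' E := by
  obtain ⟨n, _, T, _, ψ, hψ, rfl⟩ := exists_finiteType_cover hE
  rw [Set.image_iUnion, Set.inter_iUnion, closure_iUnion_of_finite] at hξ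
  obtain ⟨i, hi⟩ := Set.mem_iUnion.1 hξ
  let χ : A →+* T i := (ψ i).comp φ
  let J := ξ.asIdeal.map χ
  have hsub : closure {ξ} ∩ comap φ '' Set.range (comap (ψ i)) ⊆
      Set.range (comap ((Ideal.Quotient.mk J).comp χ)) := by
    rintro _ ⟨hx, _, ⟨q, rfl⟩, rfl⟩
    rw [← zeroLocus_vanishingIdeal_eq_closure, vanishingIdeal_singleton] at hx
    obtain ⟨q', hq'⟩ : q ∈ Set.range (comap (Ideal.Quotient.mk J)) := by
      rw [range_comap_of_surjective _ _ Ideal.Quotient.mk_surjective, Ideal.mk_ker]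
      exact Ideal.map_le_iff_le_comap.2 hx
    exact ⟨q', by rw [← hq']; rfl⟩
  have hle : RingHom.ker ((Ideal.Quotient.mk J).comp χ) ≤ ξ.asIdeal := fun a ha => by
    have h := closure_minimal (t := zeroLocus (RingHom.ker ((Ideal.Quotient.mk J).comp χ) : Set A))
      (hsub.trans ?_) (isClosed_zeroLocus _) hi
    · exact h ha
    rintro _ ⟨q, rfl⟩ b hb
    show (Ideal.Quotient.mk J).comp χ b ∈ q.asIdeal
    rw [show (Ideal.Quotient.mk J).comp χ b = 0 from hb]
    exact zero_mem _
  have hmin : ξ.asIdeal ∈ ((⊥ : Ideal (T i ⧸ J)).comap ((Ideal.Quotient.mk J).comp χ)).minimalPrimes := by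
    refine ⟨⟨ξ.2, hle⟩, fun P hP _ => le_trans (fun a ha => ?_) hP.2⟩
    show (Ideal.Quotient.mk J).comp χ a = 0
    exact Ideal.Quotient.eq_zero_iff_mem.2 (Ideal.mem_map_of_mem χ ha)
  obtain ⟨q, hq, -, he⟩ := Ideal.exists_comap_eq_of_mem_minimalPrimes _ _ hmin
  exact ⟨comap (ψ i) (comap (Ideal.Quotient.mk J) ⟨q, hq⟩), Set.mem_iUnion.2 ⟨i, _, rfl⟩,
    PrimeSpectrum.ext he⟩

/-- a ring map of finite type out of a Jacobson ring sends closed points to closed points -/
theorem isClosed_comap {A B : Type u} [CommRing A] [CommRing B] [IsJacobsonRing A] (φ : A →+* B)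
    (hφ : φ.FiniteType) {y : PrimeSpectrum B} (hy : IsClosed ({y} : Set (PrimeSpectrum B))) :
    IsClosed ({comap φ y} : Set (PrimeSpectrum A)) := by
  rw [isClosed_singleton_iff_isMaximal] at hy ⊢
  haveI := hy
  letI : Field (B ⧸ y.asIdeal) := Ideal.Quotient.field _
  letI : Algebra A (B ⧸ y.asIdeal) := ((Ideal.Quotient.mk y.asIdeal).comp φ).toAlgebra
  haveI : Algebra.FiniteType A (B ⧸ y.asIdeal) :=
    (RingHom.FiniteType.of_surjective _ Ideal.Quotient.mk_surjective).comp hφ
  haveI := finite_of_finite_type_of_isJacobsonRing A (B ⧸ y.asIdeal)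
  haveI : (⊥ : Ideal (B ⧸ y.asIdeal)).IsMaximal := Ideal.bot_isMaximal
  have h := Ideal.isMaximal_comap_of_isIntegral_of_isMaximal (R := A) (⊥ : Ideal (B ⧸ y.asIdeal))
  have he : (⊥ : Ideal (B ⧸ y.asIdeal)).comap (algebraMap A (B ⧸ y.asIdeal)) = (comap φ y).asIdeal := by
    ext a
    exact Ideal.Quotient.eq_zero_iff_mem
  rwa [he] at h

/-- in a Jacobson spectrum the points of a constructible set closed in it are its closed points -/
theorem closedIn_iff {A B : Type u} [CommRing A] [CommRing B] [IsJacobsonRing A] (φ : A →+* B)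
    (hφ : φ.FiniteType) {E : Set (PrimeSpectrum B)} (hE : IsConstructible E) :
    {x | x ∈ comap φ '' E ∧ closure {x} ∩ comap φ '' E = {x}} =
      {x | IsClosed ({x} : Set (PrimeSpectrum A))} ∩ comap φ '' E := by
  ext x
  refine ⟨fun ⟨hx, he⟩ => ⟨?_, hx⟩, fun ⟨hc, hx⟩ => ⟨hx, ?_⟩⟩
  · obtain ⟨U, hU, hxU, hUs⟩ := exists_open_inter_closure φ hφ hE hx
    obtain ⟨z, hz, hzc⟩ := nonempty_inter_closedPoints (Z := U ∩ closure {x}) ⟨x, hxU, subset_closure rfl⟩
      (hU.isLocallyClosed.inter isClosed_closure.isLocallyClosed)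
    have : z ∈ closure {x} ∩ comap φ '' E := ⟨hz.2, hUs hz⟩
    rw [he] at this
    rw [← Set.mem_singleton_iff.1 this]
    exact hzc
  · rw [hc.closure_eq]
    exact Set.inter_eq_left.2 (Set.singleton_subset_iff.2 hx)

/-- closed points of the image are images of closed points -/
theorem image_closed {A B : Type u} [CommRing A] [CommRing B] [IsJacobsonRing A] [IsJacobsonRing B] (φ : A →+* B)
    (hφ : φ.FiniteType) {E : Set (PrimeSpectrum B)} (hE : IsConstructible E) :
    comap φ '' {y | y ∈ E ∧ closure {y} ∩ E = {y}} =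
      {x | IsClosed ({x} : Set (PrimeSpectrum A))} ∩ comap φ '' E := by
  have h := closedIn_iff (RingHom.id B) (RingHom.FiniteType.id B) hE
  simp only [comap_id, Set.image_id'] at h
  rw [h]
  refine subset_antisymm ?_ ?_
  · rintro _ ⟨y, ⟨hy, hyE⟩, rfl⟩
    exact ⟨isClosed_comap φ hφ hy, y, hyE, rfl⟩
  rintro _ ⟨hc, y, hy, rfl⟩
  obtain ⟨U, hU, hyU, hUs⟩ := exists_open_inter_closure (RingHom.id B) (RingHom.FiniteType.id B) hE
    (ξ := y) ⟨y, hy, by simp⟩
  simp only [comap_id, Set.image_id'] at hUs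
  obtain ⟨z, hz, hzc⟩ := nonempty_inter_closedPoints (Z := U ∩ closure {y}) ⟨y, hyU, subset_closure rfl⟩
    (hU.isLocallyClosed.inter isClosed_closure.isLocallyClosed)
  have hcl : closure {y} ⊆ comap φ ⁻¹' {comap φ y} :=
    closure_minimal (by simp) (hc.preimage (continuous_comap φ))
  exact ⟨z, ⟨hzc, hUs hz⟩, hcl hz.2⟩

/-- closed points are dense over the closure of a point of the image -/
theorem closure_subset_closure_closed {A B : Type u} [CommRing A] [CommRing B] [IsJacobsonRing A] [IsJacobsonRing B]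
    (φ : A →+* B) (hφ : φ.FiniteType) {E : Set (PrimeSpectrum B)} (hE : IsConstructible E)
    {ξ : PrimeSpectrum A} (hξ : ξ ∈ comap φ '' E) :
    closure ({ξ} : Set (PrimeSpectrum A)) ⊆
      closure (closure {ξ} ∩ comap φ '' {y | y ∈ E ∧ closure {y} ∩ E = {y}}) := by
  obtain ⟨U, hU, hξU, hUs⟩ := exists_open_inter_closure φ hφ hE hξ
  rw [image_closed φ hφ hE]
  calc closure ({ξ} : Set (PrimeSpectrum A)) ⊆ closure (U ∩ closure {ξ}) :=
        closure_mono (Set.singleton_subset_iff.2 ⟨hξU, subset_closure rfl⟩)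
    _ = closure ((U ∩ closure {ξ}) ∩ closedPoints _) :=
        (JacobsonSpace.closure_inter_closedPoints_eq_closure
          (hU.isLocallyClosed.inter isClosed_closure.isLocallyClosed)).symm
    _ ⊆ _ := closure_mono (by rintro x ⟨hx, hc⟩; exact ⟨hx.2, hc, hUs hx⟩)

end Groth.Agent.CAlgJac
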